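import Mathlib

/-!
# Subalgebras of `k[t]/(t^n)` over which it is flat

Such a subalgebra is generated by one element.
-/

noncomputable section

open Polynomial Module

namespace Groth.Agent.CurvilinX

universe u

variable {k : Type u} [Field k] {n : ℕ}

/-- `k[t]/(t^n)`. -/
abbrev B (k : Type u) [Field k] (n : ℕ) := Polynomial k ⧸ Ideal.span {(X : Polynomial k) ^ n}

/-- The projection. -/
abbrev π (k : Type u) [Field k] (n : ℕ) : Polynomial k →ₐ[k] B k n := Ideal.Quotient.mkₐ k _

theorem π_surj : Function.Surjective (π k n) := Ideal.Quotient.mkₐ_surjective k _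

theorem π_eq_zero {p : Polynomial k} : π k n p = 0 ↔ X ^ n ∣ p :=
  Ideal.Quotient.eq_zero_iff_mem.trans Ideal.mem_span_singleton

theorem pow_eq_zero {j : ℕ} : (π k n X) ^ j = 0 ↔ n ≤ j := by
  rw [← map_pow, π_eq_zero, pow_dvd_pow_iff Polynomial.X_ne_zero Polynomial.not_isUnit_X]

/-- The augmentation. -/
def aug (hn : 0 < n) : B k n →ₐ[k] k :=
  Ideal.Quotient.liftₐ _ (Polynomial.aeval (0 : k)) fun p hp => by
    obtain ⟨q, rfl⟩ := Ideal.mem_span_singleton.mp hp
    simp [zero_pow hn.ne']

theorem aug_π (hn : 0 < n) (p : Polynomial k) : aug hn (π k n p) = p.coeff 0 := by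
  change Polynomial.aeval (0 : k) p = _
  rw [Polynomial.coeff_zero_eq_eval_zero, ← Polynomial.coe_aeval_eq_eval]

theorem dvd_sub_aug (hn : 0 < n) (x : B k n) : π k n X ∣ x - algebraMap k _ (aug hn x) := by
  obtain ⟨p, rfl⟩ := π_surj x
  rw [aug_π, ← AlgHom.commutes (π k n), ← map_sub]
  exact map_dvd _ (X_dvd_sub_C)

theorem isNilpotent_sub_aug (hn : 0 < n) (x : B k n) :
    IsNilpotent (x - algebraMap k _ (aug hn x)) := by
  obtain ⟨y, hy⟩ := dvd_sub_aug hn x
  exact ⟨n, by rw [hy, mul_pow, pow_eq_zero.mpr le_rfl, zero_mul]⟩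

theorem isUnit_of_aug (hn : 0 < n) {x : B k n} (hx : aug hn x ≠ 0) : IsUnit x := by
  have := (isNilpotent_sub_aug hn x).isUnit_add_left_of_commute
    ((IsUnit.mk0 _ hx).map (algebraMap k (B k n))) (Commute.all _ _)
  simpa using this

variable (A : Subalgebra k (B k n))

theorem isUnit_sub (hn : 0 < n) {a : A} (ha : aug hn (a : B k n) ≠ 0) : IsUnit a := by
  have h : IsNilpotent (a - algebraMap k A (aug hn (a : B k n))) := by
    obtain ⟨m, hm⟩ := isNilpotent_sub_aug hn (a : B k n)
    exact ⟨m, Subtype.ext (by simpa using hm)⟩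
  have := h.isUnit_add_left_of_commute
    ((IsUnit.mk0 _ ha).map (algebraMap k A)) (Commute.all _ _)
  simpa using this

theorem isLocalRing (hn : 0 < n) : IsLocalRing A :=
  haveI : Nontrivial (B k n) := (aug hn).domain_nontrivial
  IsLocalRing.of_isUnit_or_isUnit_one_sub_self fun a => by
    by_cases ha : aug hn (a : B k n) = 0
    · exact Or.inr (isUnit_sub A hn (by simp [ha]))
    · exact Or.inl (isUnit_sub A hn ha)

theorem finrank_B : finrank k (B k n) = n := by
  rw [finrank_quotient_span_eq_natDegree, Polynomial.natDegree_X_pow]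

/-- A subalgebra over which `k[t]/(t^n)` is flat is again truncated polynomial. -/
theorem exists_equiv (hn : 0 < n) [Module.Flat A (B k n)] :
    ∃ m : ℕ, Nonempty (A ≃ₐ[k] B k m) := by
  classical
  have : IsLocalRing A := isLocalRing A hn
  have : Module.Finite k (B k n) := (Polynomial.monic_X_pow n).finite_quotient
  let P : ℕ → Prop := fun i => ∀ a : A, aug hn (a : B k n) = 0 → (π k n X) ^ i ∣ (a : B k n)
  have hP1 : P 1 := fun a ha => by
    simpa [ha] using dvd_sub_aug hn (a : B k n)
  set e := Nat.findGreatest P n with he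
  have he1 : 1 ≤ e := Nat.le_findGreatest hn hP1
  have hen : e ≤ n := Nat.findGreatest_le n
  have hPe : P e := Nat.findGreatest_spec hn hP1
  obtain ⟨a, u, hu, hau⟩ : ∃ (a : A) (u : B k n), IsUnit u ∧
      (a : B k n) = (π k n X) ^ e * u := by
    rcases hen.lt_or_eq with h | h
    · have hnot : ¬ P (e + 1) := Nat.findGreatest_is_greatest (Nat.lt_succ_self e) h
      simp only [P, not_forall] at hnot
      obtain ⟨a, ha, hdiv⟩ := hnot
      obtain ⟨u, hu⟩ := hPe a ha
      refine ⟨a, u, isUnit_of_aug hn fun h0 => hdiv ?_, hu⟩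
      have := dvd_sub_aug hn u
      rw [h0, map_zero, sub_zero] at this
      rw [hu, pow_succ]
      exact mul_dvd_mul_left _ this
    · exact ⟨0, 1, isUnit_one, by rw [h, pow_eq_zero.mpr le_rfl, zero_mul]; rfl⟩
  -- powers of `t` below `e` are independent over `A`
  have hli : LinearIndependent A (fun i : ULift.{u} (Fin e) => (π k n X) ^ (i.down : ℕ)) := by
    refine IsLocalRing.linearIndependent_of_flat _ (Fintype.linearIndependent_iff.mpr ?_)
    intro g hg
    choose g' hg' using fun i => IsLocalRing.residue_surjective (g i)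
    have h0 : (TensorProduct.mk A (IsLocalRing.ResidueField A) (B k n)) 1
        (∑ i, g' i • (π k n X) ^ (i.down : ℕ)) = 0 := by
      rw [map_sum, ← hg]
      refine Finset.sum_congr rfl fun i _ => ?_
      rw [map_smul, ← hg' i, ← IsLocalRing.ResidueField.algebraMap_eq, algebraMap_smul]
      rfl
    rw [← LinearMap.mem_ker] at h0
    erw [LinearMap.ker_tensorProductMk] at h0
    have hdvd : (π k n X) ^ e ∣ ∑ i, g' i • (π k n X) ^ (i.down : ℕ) := by
      refine Submodule.smul_induction_on h0 (fun r hr x _ => ?_) fun x y hx hy => dvd_add hx hy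
      have hr' : aug hn (r : B k n) = 0 := by
        by_contra h
        exact (IsLocalRing.mem_maximalIdeal r).mp hr (isUnit_sub A hn h)
      exact (hPe r hr').mul_right x
    have hdvd' : (π k n X) ^ e ∣ ∑ i : ULift.{u} (Fin e),
        π k n (C (aug hn (g' i : B k n)) * X ^ (i.down : ℕ)) := by
      have h2 : (π k n X) ^ e ∣ ∑ i : ULift.{u} (Fin e),
          (((g' i : B k n) - algebraMap k _ (aug hn (g' i : B k n))) * (π k n X) ^ (i.down : ℕ)) := by
        refine Finset.dvd_sum fun i _ => Dvd.dvd.mul_right ?_ _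
        have := hPe (g' i - algebraMap k A (aug hn (g' i : B k n))) (by simp)
        simpa using this
      have h3 := dvd_sub hdvd h2
      rw [← Finset.sum_sub_distrib] at h3
      convert h3 using 2 with i
      rw [map_mul, map_pow, ← Polynomial.algebraMap_eq, AlgHom.commutes,
        Subalgebra.smul_def, smul_eq_mul]
      ring
    rw [← map_sum, ← map_pow] at hdvd'
    obtain ⟨y, hy⟩ := hdvd'
    obtain ⟨q, rfl⟩ := π_surj y
    rw [← map_mul] at hy
    have hz := π_eq_zero.mp (sub_eq_zero.mpr hy ▸ map_sub (π k n) _ _ :)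
    intro i
    have hX : X ^ e ∣ ∑ l : ULift.{u} (Fin e), C (aug hn (g' l : B k n)) * X ^ (l.down : ℕ) := by
      have := dvd_add ((pow_dvd_pow X hen).trans hz) (dvd_mul_right (X ^ e) q)
      rwa [sub_add_cancel] at this
    have hci := Polynomial.X_pow_dvd_iff.mp hX (i.down : ℕ) i.down.isLt
    rw [Polynomial.finsetSum_coeff, Finset.sum_eq_single i] at hci
    · rw [Polynomial.coeff_C_mul_X_pow, if_pos rfl] at hci
      rw [← hg' i, IsLocalRing.residue_eq_zero_iff, IsLocalRing.mem_maximalIdeal]
      intro hunit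
      exact ((hunit.map A.val).map (aug hn)).ne_zero hci
    · intro l _ hl
      rw [Polynomial.coeff_C_mul_X_pow, if_neg fun h => hl (ULift.ext _ _ (Fin.ext h.symm))]
    · simp
  have hbound : e * finrank k A ≤ n := by
    have h := ((Fintype.linearCombination A (fun i : ULift.{u} (Fin e) =>
      (π k n X) ^ (i.down : ℕ))).restrictScalars k).finrank_le_finrank_of_injective
      hli.fintypeLinearCombination_injective
    rwa [finrank_B, Module.finrank_pi_fintype, Finset.sum_const, Finset.card_univ,
      Fintype.card_ulift, Fintype.card_fin, smul_eq_mul] at h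
  -- the nilpotency order of `a`
  have hq : ∃ q, n ≤ e * q := ⟨n, Nat.le_mul_of_pos_left n he1⟩
  set q := Nat.find hq with hqd
  have haq : ∀ p ∈ Ideal.span {(X : Polynomial k) ^ q}, Polynomial.aeval a p = 0 := by
    intro p hp
    obtain ⟨r, rfl⟩ := Ideal.mem_span_singleton.mp hp
    have h : a ^ q = 0 := Subtype.ext (by
      rw [SubmonoidClass.coe_pow, hau, mul_pow, ← pow_mul, pow_eq_zero.mpr (Nat.find_spec hq),
        zero_mul]
      rfl)
    simp [h]
  let φ : B k q →ₐ[k] A := Ideal.Quotient.liftₐ _ (Polynomial.aeval a) haq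
  have hinj : Function.Injective φ := by
    rw [injective_iff_map_eq_zero]
    intro x hx
    obtain ⟨p, rfl⟩ := π_surj x
    rw [π_eq_zero, Polynomial.X_pow_dvd_iff]
    intro i
    induction i using Nat.strong_induction_on with
    | _ i ih =>
      intro hi
      by_contra hci
      obtain ⟨p', rfl⟩ : X ^ i ∣ p :=
        Polynomial.X_pow_dvd_iff.mpr fun l hl => ih l hl (hl.trans hi)
      rw [Polynomial.coeff_X_pow_mul' , if_pos le_rfl, Nat.sub_self] at hci
      change Polynomial.aeval a (X ^ i * p') = 0 at hx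
      have h := congrArg A.val hx
      rw [map_zero, map_mul, map_mul, map_pow, Polynomial.aeval_X, map_pow,
        ← Polynomial.aeval_algHom_apply, Subalgebra.coe_val, hau, mul_pow, ← pow_mul] at h
      have hun : IsUnit (Polynomial.aeval ((π k n X) ^ e * u) p') := by
        refine isUnit_of_aug hn ?_
        rw [← Polynomial.aeval_algHom_apply, map_mul, map_pow, aug_π, Polynomial.coeff_X_zero,
          zero_pow (by omega), zero_mul, Polynomial.coe_aeval_eq_eval,
          ← Polynomial.coeff_zero_eq_eval_zero]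
        exact hci
      rw [hun.mul_left_eq_zero, (hu.pow i).mul_left_eq_zero, pow_eq_zero] at h
      exact absurd h (Nat.find_min hq hi)
  have : Module.Finite k A := Module.Finite.of_injective A.val.toLinearMap Subtype.val_injective
  have : Module.Finite k (B k q) := (Polynomial.monic_X_pow q).finite_quotient
  refine ⟨q, ⟨(AlgEquiv.ofBijective φ ⟨hinj, ?_⟩).symm⟩⟩
  refine (LinearMap.injective_iff_surjective_of_finrank_eq_finrank (f := φ.toLinearMap) ?_).mp hinj
  refine le_antisymm (φ.toLinearMap.finrank_le_finrank_of_injective hinj) ?_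
  rw [finrank_B]
  by_contra hlt
  push Not at hlt
  exact absurd (hbound.trans (Nat.find_spec hq)) (not_le.mpr (Nat.mul_lt_mul_of_pos_left hlt he1))

end Groth.Agent.CurvilinX
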